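import Mathlib
import Cfsg.Agent.Lib.Helper33.Breadth.Defs

/-!
# S3777 (BREADTH) package [E] (helper48): case `C' = G' ≠ 1`, a second maximal subgroup `M` with
`M' = G'`
-/

set_option autoImplicit false

namespace Cfsg.Agent.Lib.Helper48.Breadth

open Cfsg.Agent.Lib.Helper33.Breadth

universe u

section
variable {G : Type u} [Group G] {p : ℕ}

theorem comm_mem_commutator (x z : G) : x * z * x⁻¹ * z⁻¹ ∈ commutator G :=
  Subgroup.commutator_mem_commutator (Subgroup.mem_top x) (Subgroup.mem_top z)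

/-- KEY: a function additive on `G'` whose commutator form vanishes on `S × S`, `⁅S,S⁆ = G'`,
vanishes on `G'` -/
theorem key_vanish (lam : G → ZMod p)
    (hadd : ∀ a ∈ commutator G, ∀ b ∈ commutator G, lam (a * b) = lam a + lam b)
    (S : Subgroup G) (hS : ⁅S, S⁆ = commutator G)
    (hv : ∀ x ∈ S, ∀ z ∈ S, lam (x * z * x⁻¹ * z⁻¹) = 0) : ∀ a ∈ commutator G, lam a = 0 := by
  have h1 : lam 1 = 0 := by
    have e := hadd 1 (Subgroup.one_mem _) 1 (Subgroup.one_mem _)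
    rw [mul_one] at e
    linear_combination -e
  intro a ha
  rw [← hS, Subgroup.commutator_def] at ha
  have h2 : a ∈ commutator G ∧ lam a = 0 := by
    induction ha using Subgroup.closure_induction with
    | mem g hg =>
      obtain ⟨g₁, hg₁, g₂, hg₂, rfl⟩ := hg
      refine ⟨?_, hv g₁ hg₁ g₂ hg₂⟩
      rw [← hS]
      exact Subgroup.commutator_mem_commutator hg₁ hg₂
    | one => exact ⟨Subgroup.one_mem _, h1⟩
    | mul a b _ _ iha ihb =>
      exact ⟨Subgroup.mul_mem _ iha.1 ihb.1, by rw [hadd a iha.1 b ihb.1, iha.2, ihb.2, add_zero]⟩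
    | inv a _ iha =>
      refine ⟨Subgroup.inv_mem _ iha.1, ?_⟩
      have e := hadd a iha.1 a⁻¹ (Subgroup.inv_mem _ iha.1)
      rw [mul_inv_cancel, h1, iha.2, zero_add] at e
      exact e.symm
  exact h2.2

/-- the functions additive and `G`-invariant on `G'` -/
def invSub (G : Type u) [Group G] (p : ℕ) : Submodule (ZMod p) (G → ZMod p) where
  carrier := {lam | (∀ a ∈ commutator G, ∀ b ∈ commutator G, lam (a * b) = lam a + lam b) ∧
    (∀ a ∈ commutator G, ∀ g : G, lam (g * a * g⁻¹) = lam a)}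
  add_mem' := by
    rintro f g ⟨hf1, hf2⟩ ⟨hg1, hg2⟩
    refine ⟨fun a ha b hb => ?_, fun a ha x => ?_⟩
    · simp only [Pi.add_apply]
      rw [hf1 a ha b hb, hg1 a ha b hb]
      ring
    · simp only [Pi.add_apply]
      rw [hf2 a ha x, hg2 a ha x]
  zero_mem' := ⟨fun a _ b _ => by simp, fun a _ x => rfl⟩
  smul_mem' := by
    rintro c f ⟨hf1, hf2⟩
    refine ⟨fun a ha b hb => ?_, fun a ha x => ?_⟩
    · simp only [Pi.smul_apply, smul_eq_mul]
      rw [hf1 a ha b hb]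
      ring
    · simp only [Pi.smul_apply, smul_eq_mul]
      rw [hf2 a ha x]

theorem mem_invSub {lam : G → ZMod p} : lam ∈ invSub G p ↔
    (∀ a ∈ commutator G, ∀ b ∈ commutator G, lam (a * b) = lam a + lam b) ∧
    (∀ a ∈ commutator G, ∀ g : G, lam (g * a * g⁻¹) = lam a) := Iff.rfl

/-- the commutator form of a function -/
def commForm (G : Type u) [Group G] (p : ℕ) : (G → ZMod p) →ₗ[ZMod p] (G → G → ZMod p) where
  toFun lam := fun x z => lam (x * z * x⁻¹ * z⁻¹)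
  map_add' _ _ := rfl
  map_smul' _ _ := rfl

theorem commForm_apply (lam : G → ZMod p) (x z : G) :
    commForm G p lam x z = lam (x * z * x⁻¹ * z⁻¹) := rfl

end

/-- **[E]** -/
theorem pkgE (hLin : PkgLin.{u}) (hSepG : PkgSepG.{u}) (hKer : PkgKer.{u})
    (hKerIdx : PkgKerIdx.{u}) : PkgE.{u} := by
  intro G _ _ p _ hG C hC hCC hN
  have hp : p.Prime := Fact.out
  have hNn : (commutator G).Normal := inferInstance
  have hbot : (⊥ : Subgroup G) < commutator G := bot_lt_iff_ne_bot.mpr hN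
  obtain ⟨lam0, hl1, hl2, -, a0, ha0, hla0⟩ :=
    hSepG p hG (commutator G) ⊥ hNn inferInstance hbot
  obtain ⟨χ₀, hχ₀add, hχ₀⟩ := hKer p hG C hC
  have hχ₀ne : ∃ x, χ₀ x ≠ 0 := by
    by_contra hcon
    push_neg at hcon
    have hCtop : C = ⊤ := by
      rw [eq_top_iff]
      intro x _
      exact (hχ₀ x).mp (hcon x)
    rw [hCtop, Subgroup.index_top] at hC
    exact hp.one_lt.ne hC
  have hL1 : ∀ β ∈ (invSub G p).map (commForm G p), ∀ x x' z,
      β (x * x') z = β x z + β x' z := by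
    rintro β ⟨lam, hlam, rfl⟩ x x' z
    obtain ⟨hadd, hinv⟩ := mem_invSub.mp hlam
    show lam (x * x' * z * (x * x')⁻¹ * z⁻¹) =
      lam (x * z * x⁻¹ * z⁻¹) + lam (x' * z * x'⁻¹ * z⁻¹)
    have e : x * x' * z * (x * x')⁻¹ * z⁻¹ =
        (x * (x' * z * x'⁻¹ * z⁻¹) * x⁻¹) * (x * z * x⁻¹ * z⁻¹) := by group
    rw [e, hadd _ (hNn.conj_mem _ (comm_mem_commutator x' z) x) _ (comm_mem_commutator x z),
      hinv _ (comm_mem_commutator x' z) x, add_comm]
  have hL2 : ∀ β ∈ (invSub G p).map (commForm G p), ∀ x z z',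
      β x (z * z') = β x z + β x z' := by
    rintro β ⟨lam, hlam, rfl⟩ x z z'
    obtain ⟨hadd, hinv⟩ := mem_invSub.mp hlam
    show lam (x * (z * z') * x⁻¹ * (z * z')⁻¹) =
      lam (x * z * x⁻¹ * z⁻¹) + lam (x * z' * x⁻¹ * z'⁻¹)
    have e : x * (z * z') * x⁻¹ * (z * z')⁻¹ =
        (x * z * x⁻¹ * z⁻¹) * (z * (x * z' * x⁻¹ * z'⁻¹) * z⁻¹) := by group
    rw [e, hadd _ (comm_mem_commutator x z) _ (hNn.conj_mem _ (comm_mem_commutator x z') z),
      hinv _ (comm_mem_commutator x z') z]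
  have hL3 : ∀ β ∈ (invSub G p).map (commForm G p), ∀ x, β x x = 0 := by
    rintro β ⟨lam, hlam, rfl⟩ x
    obtain ⟨hadd, hinv⟩ := mem_invSub.mp hlam
    show lam (x * x * x⁻¹ * x⁻¹) = 0
    have e : x * x * x⁻¹ * x⁻¹ = 1 := by group
    rw [e]
    have e1 := hadd 1 (Subgroup.one_mem _) 1 (Subgroup.one_mem _)
    rw [mul_one] at e1
    linear_combination -e1
  have hL4 : ∃ β ∈ (invSub G p).map (commForm G p), β ≠ 0 := by
    refine ⟨commForm G p lam0, Submodule.mem_map_of_mem (mem_invSub.mpr ⟨hl1, hl2⟩), ?_⟩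
    intro h0
    apply hla0
    exact key_vanish lam0 hl1 ⊤ rfl
      (fun x _ z _ => congrFun (congrFun h0 x) z) a0 ha0
  have hL5 : ∀ β ∈ (invSub G p).map (commForm G p),
      (∀ x z, χ₀ x = 0 → χ₀ z = 0 → β x z = 0) → β = 0 := by
    rintro β ⟨lam, hlam, rfl⟩ hv
    obtain ⟨hadd, hinv⟩ := mem_invSub.mp hlam
    have hz := key_vanish lam hadd C hCC
      (fun x hx z hz => hv x z ((hχ₀ x).mpr hx) ((hχ₀ z).mpr hz))
    funext x z
    exact hz _ (comm_mem_commutator x z)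
  obtain ⟨χ, hχadd, hχne, ⟨x1, hx1, hx1'⟩, hχL⟩ :=
    hLin p ((invSub G p).map (commForm G p)) hL1 hL2 hL3 hL4 χ₀ hχ₀add hχ₀ne hL5
  obtain ⟨M, hMn, hMidx, hM⟩ := hKerIdx p χ hχadd hχne
  refine ⟨M, hMidx, ?_, ?_⟩
  · intro hMC
    apply hx1'
    rw [← hM, hMC, ← hχ₀]
    exact hx1
  · by_contra hne
    have hle : ⁅M, M⁆ ≤ commutator G := Subgroup.commutator_mono le_top le_top
    have hlt : ⁅M, M⁆ < commutator G := lt_of_le_of_ne hle hne
    have hMMn : (⁅M, M⁆ : Subgroup G).Normal := inferInstance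
    obtain ⟨lam, hm1, hm2, hm3, a, ha, hla⟩ :=
      hSepG p hG (commutator G) ⁅M, M⁆ hNn hMMn hlt
    have hβ0 : commForm G p lam = 0 := by
      apply hχL _ (Submodule.mem_map_of_mem (mem_invSub.mpr ⟨hm1, hm2⟩))
      intro x z hx hz
      show lam (x * z * x⁻¹ * z⁻¹) = 0
      apply hm3
      exact Subgroup.commutator_mem_commutator ((hM x).mpr hx) ((hM z).mpr hz)
    apply hla
    exact key_vanish lam hm1 ⊤ rfl (fun x _ z _ => congrFun (congrFun hβ0 x) z) a ha

end Cfsg.Agent.Lib.Helper48.Breadth
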